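import Cfsg.Agent.H892.EP.Rows
import Cfsg.Agent.H133.PB.LieCross
import Cfsg.Agent.H33.IMLie
import Cfsg.Agent.H452.FprPsl2
import Cfsg.Agent.H984.SLCyc
import Cfsg.Agent.H979.LieSplit
import Cfsg.Agent.H400.LieLocal

/-!
# S4929: the defining characteristic for all groups of Lie type, and `PSL₂(q)` (helper652)

* `evAt_own` : `IsLieTypeChar r Y`, `r` odd: the principal `r`-block contains a character of even degree;
* `row_psl2` : `PSL₂(q)`, all odd primes.
-/

set_option autoImplicit false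
set_option linter.unusedSectionVars false

namespace Cfsg.Agent.H652.EP

open Cfsg Cfsg.Agent.H892.EP

universe u

theorem two_dvd_card {S : Type u} [Group S] [Finite S] (hs : IsSimpleGroup S) (hc : ¬ IsMulCommutative S) :
    2 ∣ Nat.card S := by
  by_contra h
  have h1 : Odd (Nat.card S) := by
    rw [← Nat.not_even_iff_odd]
    exact fun h2 => h h2.two_dvd
  have h2 : Group.IsSolvable S := S0205.result h1
  exact hc ⟨⟨fun a b => IsSimpleGroup.comm_iff_isSolvable.2 h2 a b⟩⟩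

theorem nonab_lie {r : ℕ} (hr : r.Prime) {S : Type u} [Group S] [IsSimpleGroup S] (h : IsLieTypeChar r S) :
    ¬ IsMulCommutative S := by
  intro hc
  obtain ⟨a, b, hab⟩ := H400.LieLocal.exists_noncomm
    (H400.LieLocal.center_eq_bot (H979.LieSplit.hasSplit_of_isLieTypeChar hr h))
  exact hab (hc.is_comm.comm a b)

/-- an even degree for the groups of Lie type of odd characteristic -/
theorem im_two_lie {r : ℕ} (hpr : r.Prime) (hr : r ≠ 2) {Y : Type u} [Group Y] [Finite Y] (h : IsLieTypeChar r Y) : H33.IM 2 Y := by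
  have : Fact (Nat.Prime 2) := ⟨Nat.prime_two⟩
  have hs : IsSimpleGroup Y := H400.LieSimple.isSimple_of_lie h
  have hna : ¬ IsMulCommutative Y := nonab_lie hpr h
  have hd := two_dvd_card hs hna
  rcases h with h | h | h | h | h | h | h | h | h | h | h
  · obtain ⟨F, i1, i2, i3, n, h1, h2, h3⟩ := h
    exact H33.im_psl ⟨F, i1, i2, n, h1, h2, h3⟩ hd
  · obtain ⟨F, i1, i2, i3, n, h1, h2, h3⟩ := h
    exact H477.HC.im_psp Y ⟨F, i1, i2, n, h1, h2, h3⟩ hs hd H579.RkThree.leftSp43 H579.RkThree.leftSp62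
      H579.RkThree.leftSp63
  · obtain ⟨F, i1, i2, i3, n, q, h1, h2, h3, h4⟩ := h
    exact H33.im_psu ⟨F, i1, i2, n, q, h1, h2, h3, h4⟩ hs hd
  · obtain ⟨F, i1, i2, i3, n, h1, h2, h3⟩ := h
    exact H477.HC.im_omega_odd Y ⟨F, i1, i2, n, h1, h2, h3⟩ hs hd
  · obtain ⟨F, i1, i2, i3, n, h1, h2⟩ := h
    exact H477.HC.im_omega_plus Y ⟨F, i1, i2, n, h1, h2⟩ hs hd
  · obtain ⟨F, i1, i2, i3, n, a, b, h1, h2, h3⟩ := h
    exact H477.HC.im_omega_minus Y ⟨F, i1, i2, n, a, b, h1, h2, h3⟩ hs hd H579.RkThree.leftO8m2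
  · obtain ⟨F, i1, i2, i3, h | h | h | h | h⟩ := h
    · exact H33.im_exceptional (Or.inl ⟨F, i1, i2, h⟩) hs hd
    · exact H33.im_exceptional (Or.inr (Or.inl ⟨F, i1, i2, h⟩)) hs hd
    · exact H33.im_exceptional (Or.inr (Or.inr (Or.inl ⟨F, i1, i2, h⟩))) hs hd
    · exact H33.im_exceptional (Or.inr (Or.inr (Or.inr (Or.inl ⟨F, i1, i2, h⟩)))) hs hd
    · exact H33.im_exceptional (Or.inr (Or.inr (Or.inr (Or.inr (Or.inl ⟨F, i1, i2, h⟩))))) hs hd
  · obtain ⟨F, i1, i2, i3, q, hq, h | h⟩ := h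
    · exact H33.im_exceptional (Or.inr (Or.inr (Or.inr (Or.inr (Or.inr (Or.inl ⟨F, i1, i2, q, hq, h⟩)))))) hs hd
    · exact H33.im_exceptional (Or.inr (Or.inr (Or.inr (Or.inr (Or.inr (Or.inr (Or.inl ⟨F, i1, i2, q, hq, h⟩))))))) hs hd
  · exact absurd h.1 hr
  · exact absurd h.1 hr
  · exact H732.DegRee.im Y h.2 hs hd

/-- **The defining characteristic.** -/
theorem evAt_own {r : ℕ} [hp : Fact r.Prime] (hr : r ≠ 2) {Y : Type u} [Group Y] [Finite Y]
    (h : IsLieTypeChar r Y) : EvAt r Y := by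
  intro M hM
  obtain ⟨χ, hχ⟩ := im_two_lie hp.out hr h
  exact ⟨χ, H133.PB.mem_principal_of_lie hp.out Nat.prime_two hr.symm h χ hχ hM, hχ⟩

section psl2

open Matrix Cfsg.Agent.H984.SLTwo

variable {F : Type u} [Field F] [DecidableEq F] [Fintype F]

local notation "SL" => Matrix.SpecialLinearGroup (Fin 2) F
local notation "M₂" => Matrix (Fin 2) (Fin 2) F

/-- from `SL₂` to `PSL₂` -/
theorem real_psl2 {p : ℕ} [hp : Fact p.Prime] {x : SL} (hx : orderOf x = p) (hNS : NS (x : M₂))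
    (hc : IsConj x x⁻¹) : ∃ z : Matrix.ProjectiveSpecialLinearGroup (Fin 2) F, orderOf z = p ∧ IsConj z z⁻¹ := by
  obtain ⟨y, hy⟩ := isConj_iff.1 hc
  refine ⟨QuotientGroup.mk x, ?_, isConj_iff.2 ⟨QuotientGroup.mk y, ?_⟩⟩
  · have h1 : orderOf (QuotientGroup.mk x : Matrix.ProjectiveSpecialLinearGroup (Fin 2) F) ∣ p := by
      rw [← hx]
      exact orderOf_map_dvd (QuotientGroup.mk' _) x
    rcases (Nat.dvd_prime hp.out).1 h1 with h2 | h2
    · exfalso
      rw [orderOf_eq_one_iff, QuotientGroup.eq_one_iff] at h2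
      exact not_NS_of_mem_center h2 hNS
    · exact h2
  · rw [← QuotientGroup.mk_mul, ← QuotientGroup.mk_inv, ← QuotientGroup.mk_mul, ← QuotientGroup.mk_inv, hy]

theorem upp_mul_upp (a b : Fˣ) : (upp a 0 : SL) * upp b 0 = upp (a * b) 0 := by
  apply Matrix.SpecialLinearGroup.ext
  intro i j
  rw [Matrix.SpecialLinearGroup.coe_mul, coe_upp, coe_upp, coe_upp]
  fin_cases i <;> fin_cases j <;> simp [Matrix.mul_apply, Fin.sum_univ_two, mul_comm]

theorem exists_real_psl2 {p : ℕ} [hp : Fact p.Prime] (hp2 : p ≠ 2) (hd : p ∣ Fintype.card F ^ 2 - 1) :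
    ∃ z : Matrix.ProjectiveSpecialLinearGroup (Fin 2) F, orderOf z = p ∧ IsConj z z⁻¹ := by
  have hq : 2 ≤ Fintype.card F := Fintype.one_lt_card
  have h1 : Fintype.card F ^ 2 - 1 = (Fintype.card F + 1) * (Fintype.card F - 1) := by
    rw [← Nat.sq_sub_sq, one_pow]
  rw [h1] at hd
  rcases (hp.out.dvd_mul).1 hd with h | h
  · obtain ⟨g, hg⟩ := exists_ell (F := F)
    have hcc := card_cent_ell g hg
    obtain ⟨c, hc⟩ := exists_prime_orderOf_dvd_card' (G := Subgroup.centralizer ({g} : Set SL)) p (by rw [hcc]; exact h)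
    have hc' : orderOf (c : SL) = p := by rw [Subgroup.orderOf_coe, hc]
    have hNS : NS ((c : SL) : M₂) := by
      by_contra hn
      rcases scalar_cases hn with h5 | h5
      · rw [h5, upp_one_zero, orderOf_one] at hc'
        exact hp.out.one_lt.ne hc'
      · have h6 : (c : SL) ^ 2 = 1 := by
          rw [h5, sq]
          exact z0_mul_self
        have h7 := orderOf_dvd_of_pow_eq_one h6
        rw [hc'] at h7
        exact hp2 ((Nat.prime_dvd_prime_iff_eq hp.out Nat.prime_two).1 h7)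
    exact real_psl2 hc' hNS (isConj_inv_of_ell (ell_of_mem_cent hg c.2 hNS))
  · obtain ⟨a, ha⟩ := exists_prime_orderOf_dvd_card' (G := Fˣ) p (by
      rw [Nat.card_eq_fintype_card, Fintype.card_units]; exact h)
    have hne : a⁻¹ ≠ a := by
      intro h5
      have h6 : a ^ 2 = 1 := by
        rw [sq]
        nth_rewrite 1 [← h5]
        exact inv_mul_cancel a
      have h7 := orderOf_dvd_of_pow_eq_one h6
      rw [ha] at h7
      exact hp2 ((Nat.prime_dvd_prime_iff_eq hp.out Nat.prime_two).1 h7)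
    let f : Fˣ →* SL :=
      { toFun := fun b => upp b 0
        map_one' := upp_one_zero
        map_mul' := fun b c => (upp_mul_upp b c).symm }
    have hf : Function.Injective f := fun b c h5 => (upp_inj h5).1
    have hx : orderOf (upp a 0 : SL) = p := by
      rw [← ha]
      exact orderOf_injective f hf a
    have hNS := NS_upp_split hne (0 : F)
    refine real_psl2 hx hNS (isConj_of_tr hNS (NS_inv hNS) (tr_inv _).symm (Or.inr ?_))
    intro h5
    apply hne
    have h6 : tr (upp a 0 : M₂) = (a : F) + ((a⁻¹ : Fˣ) : F) := by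
      unfold tr
      rw [coe_upp]
      simp
    rw [h6] at h5
    have h7 : ((a : F) - ((a⁻¹ : Fˣ) : F)) ^ 2 = 0 := by
      have h8 : (a : F) * ((a⁻¹ : Fˣ) : F) = 1 := by rw [← Units.val_mul, mul_inv_cancel, Units.val_one]
      linear_combination h5 - 4 * h8
    have h8 := pow_eq_zero_iff (two_ne_zero) |>.1 h7
    exact (Units.ext (sub_eq_zero.1 h8)).symm

end psl2

theorem row_psl2 : ∀ (F : Type) [Field F] [Fintype F], 4 ≤ Fintype.card F →
    Ev (Matrix.ProjectiveSpecialLinearGroup (Fin 2) F) := by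
  classical
  intro F _ _ h4 p hp hp2 hd
  have : Fact p.Prime := ⟨hp⟩
  have := H452.FprPsl2.pfin (F := F)
  by_cases hF : p ∣ Fintype.card F
  · have hch : CharP F p := by
      obtain ⟨r, hr⟩ := CharP.exists F
      have hr' : Fact r.Prime := ⟨CharP.char_is_prime F r⟩
      obtain ⟨N, -, hN⟩ := FiniteField.card F r
      rw [hN] at hF
      have h5 := (Nat.prime_dvd_prime_iff_eq hp hr'.out).1 (hp.dvd_of_dvd_pow hF)
      rw [h5]
      exact hr
    exact evAt_own hp2 (Or.inl ⟨F, inferInstance, inferInstance, hch, 2, le_rfl, fun _ => h4, ⟨MulEquiv.refl _⟩⟩)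
  · have h5 : Nat.card (Matrix.SpecialLinearGroup (Fin 2) F) = Fintype.card F * (Fintype.card F ^ 2 - 1) :=
      H984.SLTwo.card_SL
    have h6 : p ∣ Nat.card (Matrix.SpecialLinearGroup (Fin 2) F) := hd.trans (Subgroup.card_quotient_dvd_card _)
    rw [h5] at h6
    obtain ⟨z, hz, hr⟩ := exists_real_psl2 (F := F) hp2 ((hp.dvd_mul.1 h6).resolve_left hF)
    exact evAt_of_real_cyclic hp2 (fun P => H452.FprPsl2.psl_cyclic hp2 hF P) hz hr

end Cfsg.Agent.H652.EP
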